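import Groth.Agent.ApproxMod.Modules
import Groth.Agent.Hensel.HenselizationProps
import Mathlib.RingTheory.AdicCompletion.Completeness
import Mathlib.RingTheory.AdicCompletion.Algebra
import Mathlib.RingTheory.LaurentSeries
import Mathlib.RingTheory.PowerSeries.Trunc

/-!
# The completion and the Laurent series instances
-/

set_option autoImplicit false
set_option linter.style.haveILetI false

universe u

namespace Groth.Agent.ApproxMod

open Polynomial

/-- `A[1/t] → Â[1/t]`. -/
theorem data_completion (A : Type u) [CommRing A] (t : A) (ht : t ∈ (⊥ : Ideal A).jacobson)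
    [Algebra (Localization.Away t) (Localization.Away (algebraMap A (AdicCompletion (Ideal.span {t}) A) t))]
    (halg : algebraMap (Localization.Away t) (Localization.Away (algebraMap A (AdicCompletion (Ideal.span {t}) A) t)) =
      Localization.awayMap (algebraMap A (AdicCompletion (Ideal.span {t}) A)) t) :
    Data (A' := Localization.Away t) (S' := Localization.Away (algebraMap A (AdicCompletion (Ideal.span {t}) A) t))
      (algebraMap A (AdicCompletion (Ideal.span {t}) A)) t := by
  have hfg : (Ideal.span {t}).FG := ⟨{t}, by simp⟩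
  refine ⟨fun a => by rw [halg]; exact IsLocalization.map_eq _ a, ht, ?_, fun M x hx => ?_, fun M s => ?_⟩
  · haveI : IsAdicComplete ((Ideal.span {t}).map (algebraMap A (AdicCompletion (Ideal.span {t}) A)))
        (AdicCompletion (Ideal.span {t}) A) :=
      (IsAdicComplete.map_algebraMap_iff _ _).mpr (AdicCompletion.isAdicComplete hfg)
    have := IsAdicComplete.le_jacobson_bot ((Ideal.span {t}).map (algebraMap A (AdicCompletion (Ideal.span {t}) A)))
    exact this (Ideal.mem_map_of_mem _ (Ideal.mem_span_singleton_self t))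
  · obtain ⟨c, hc⟩ := Ideal.mem_span_singleton'.1 hx
    have h := congrArg (AdicCompletion.evalₐ (Ideal.span {t}) M) hc
    simp only [map_mul, map_pow, AlgHom.commutes] at h
    rw [Ideal.Quotient.algebraMap_eq] at h
    rw [← map_pow (Ideal.Quotient.mk _), show Ideal.Quotient.mk (Ideal.span {t} ^ M) (t ^ M) = 0 from
      Ideal.Quotient.eq_zero_iff_mem.2 (Ideal.pow_mem_pow (Ideal.mem_span_singleton_self t) M), mul_zero] at h
    rw [← Ideal.span_singleton_pow]
    exact Ideal.Quotient.eq_zero_iff_mem.1 h.symm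
  · obtain ⟨f, rfl⟩ := AdicCompletion.mk_surjective (Ideal.span {t}) A s
    refine ⟨f M, ?_⟩
    have h : AdicCompletion.mk (Ideal.span {t}) A f - algebraMap A _ (f M) ∈
        (Ideal.span {t} ^ M • ⊤ : Submodule A (AdicCompletion (Ideal.span {t}) A)) := by
      rw [AdicCompletion.pow_smul_top_eq_ker_eval hfg, LinearMap.mem_ker, map_sub, sub_eq_zero,
        AdicCompletion.algebraMap_apply]
      rfl
    rw [Ideal.smul_top_eq_map, Submodule.restrictScalars_mem, Ideal.map_pow, Ideal.map_span, Set.image_singleton,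
      Ideal.span_singleton_pow] at h
    exact h

/-- Maps to Laurent series which are bijective modulo powers of `X`. -/
theorem data_powerSeries {R : Type u} [CommRing R] {B : Type u} [CommRing B] [Algebra R[X] B]
    (hjac : algebraMap R[X] B X ∈ Ideal.jacobson (⊥ : Ideal B))
    (hinj : ∀ (M : ℕ) (b : B), ∃ p : R[X], b - algebraMap R[X] B p ∈ Ideal.span {algebraMap R[X] B X ^ M})
    (f : B →+* PowerSeries R) (hf : ∀ p : R[X], f (algebraMap R[X] B p) = (p : PowerSeries R))
    {A' : Type u} [CommRing A'] [Algebra B A']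
    {L' : Type u} [CommRing L'] [Algebra A' L'] [Algebra (PowerSeries R) L']
    (hc : ∀ b, algebraMap A' L' (algebraMap B A' b) = algebraMap (PowerSeries R) L' (f b)) :
    Data (A' := A') (S' := L') f (algebraMap R[X] B X) := by
  have hX : f (algebraMap R[X] B X) = PowerSeries.X := by rw [hf, Polynomial.coe_X]
  refine ⟨hc, hjac, ?_, fun M b hb => ?_, fun M s => ?_⟩
  · rw [hX]
    refine Ideal.mem_jacobson_bot.2 fun y => PowerSeries.isUnit_iff_constantCoeff.2 ?_
    simp
  · obtain ⟨p, hp⟩ := hinj M b
    have h1 : PowerSeries.X ^ M ∣ (p : PowerSeries R) := by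
      have h2 := Ideal.mem_map_of_mem f hp
      rw [Ideal.map_span, Set.image_singleton, map_pow, hX, map_sub, hf] at h2
      rw [hX] at hb
      have h3 := Ideal.sub_mem _ hb h2
      rw [sub_sub_cancel] at h3
      exact Ideal.mem_span_singleton.1 h3
    rw [PowerSeries.X_pow_dvd_iff] at h1
    obtain ⟨q, rfl⟩ : X ^ M ∣ p := Polynomial.X_pow_dvd_iff.2 fun d hd => by simpa using h1 d hd
    rw [← sub_add_cancel b (algebraMap R[X] B (X ^ M * q)), map_mul, map_pow]
    rw [map_mul, map_pow] at hp
    exact add_mem hp (Ideal.mul_mem_right _ _ (Ideal.mem_span_singleton_self _))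
  · refine ⟨algebraMap R[X] B (PowerSeries.trunc M s), Ideal.mem_span_singleton.2 ?_⟩
    rw [hX, hf, PowerSeries.X_pow_dvd_iff]
    intro d hd
    simp [PowerSeries.coeff_trunc, hd]

theorem isLocalization_laurent {R : Type u} [CommRing R] {L' : Type u} [CommRing L'] (e : L' ≃+* LaurentSeries R)
    [Algebra (PowerSeries R) L'] (h : ∀ s, e (algebraMap (PowerSeries R) L' s) = HahnSeries.ofPowerSeries ℤ R s) :
    IsLocalization.Away (PowerSeries.X : PowerSeries R) L' :=
  IsLocalization.isLocalization_of_algEquiv (Submonoid.powers (PowerSeries.X : PowerSeries R))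
    (S := LaurentSeries R)
    { e.symm with
      commutes' := fun s => by
        show e.symm (algebraMap (PowerSeries R) (LaurentSeries R) s) = _
        rw [LaurentSeries.coe_algebraMap, ← h, RingEquiv.symm_apply_apply] }

theorem exists_sub_mem_polynomial {R : Type u} [CommRing R] {B : Type u} [CommRing B] [Algebra R[X] B]
    (hB : Hens2.IsPairHenselization R[X] (Ideal.span {(X : R[X])}) B) (M : ℕ) (b : B) :
    ∃ p : R[X], b - algebraMap R[X] B p ∈ Ideal.span {algebraMap R[X] B X ^ M} := by
  obtain ⟨q, hq⟩ := (Hensel.bijective_quotientMap_pow_of_isPairHenselization _ hB M).2 (Ideal.Quotient.mk _ b)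
  obtain ⟨p, rfl⟩ := Ideal.Quotient.mk_surjective q
  rw [Ideal.quotientMap_mk, Ideal.Quotient.eq, ← neg_sub, neg_mem_iff] at hq
  refine ⟨p, ?_⟩
  rwa [Ideal.span_singleton_pow, Ideal.map_span, Set.image_singleton, map_pow] at hq

/-- The localisation `R[t]_{1 + tR[t]}`. -/
noncomputable abbrev oneMonoid (R : Type u) [CommRing R] : Submonoid R[X] :=
  Submonoid.comap (Polynomial.constantCoeff : R[X] →+* R).toMonoidHom ⊥

theorem mem_oneMonoid {R : Type u} [CommRing R] {p : R[X]} : p ∈ oneMonoid R ↔ p.coeff 0 = 1 := Iff.rfl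

theorem isUnit_coe {R : Type u} [CommRing R] (p : oneMonoid R) :
    IsUnit (Polynomial.coeToPowerSeries.ringHom (p : R[X])) := by
  refine PowerSeries.isUnit_iff_constantCoeff.2 ?_
  rw [Polynomial.coeToPowerSeries.ringHom_apply, ← PowerSeries.coeff_zero_eq_constantCoeff_apply, Polynomial.coeff_coe,
    mem_oneMonoid.1 p.2]
  exact isUnit_one

theorem jac_oneMonoid (R : Type u) [CommRing R] :
    algebraMap R[X] (Localization (oneMonoid R)) X ∈ Ideal.jacobson (⊥ : Ideal (Localization (oneMonoid R))) := by
  refine Ideal.mem_jacobson_bot.2 fun y => ?_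
  obtain ⟨p, g, rfl⟩ := IsLocalization.exists_mk'_eq (oneMonoid R) y
  refine isUnit_of_mul_isUnit_left (y := algebraMap R[X] (Localization (oneMonoid R)) (g : R[X])) ?_
  rw [add_mul, one_mul, mul_assoc, IsLocalization.mk'_spec, ← map_mul, ← map_add]
  refine IsLocalization.map_units (Localization (oneMonoid R)) ⟨_, mem_oneMonoid.2 ?_⟩
  rw [coeff_add, mul_coeff_zero, coeff_X_zero, zero_mul, zero_add, mem_oneMonoid.1 g.2]

theorem exists_sub_mem_oneMonoid (R : Type u) [CommRing R] (M : ℕ) (b : Localization (oneMonoid R)) :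
    ∃ p : R[X], b - algebraMap R[X] (Localization (oneMonoid R)) p ∈
      Ideal.span {algebraMap R[X] (Localization (oneMonoid R)) X ^ M} := by
  obtain ⟨a, g, rfl⟩ := IsLocalization.exists_mk'_eq (oneMonoid R) b
  obtain ⟨c, hc⟩ : X ∣ 1 - (g : R[X]) := X_dvd_iff.2 (by rw [coeff_sub, coeff_one_zero, mem_oneMonoid.1 g.2, sub_self])
  let S := ∑ i ∈ Finset.range M, (X * c) ^ i
  have hS : (g : R[X]) * S = 1 - (X * c) ^ M := by
    rw [show (g : R[X]) = 1 - X * c by rw [← hc, sub_sub_cancel]]
    exact mul_neg_geom_sum _ _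
  refine ⟨a * S, Ideal.mem_span_singleton'.2 ⟨IsLocalization.mk' _ (a * c ^ M) g, ?_⟩⟩
  refine (IsLocalization.map_units (Localization (oneMonoid R)) g).mul_left_cancel ?_
  rw [← mul_assoc, IsLocalization.mk'_spec', mul_sub, IsLocalization.mk'_spec', ← map_pow, ← map_mul, ← map_mul,
    ← map_sub]
  congr 1
  linear_combination a * hS

end Groth.Agent.ApproxMod
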