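import Groth.Agent.ApproxMod.Small
import Groth.Agent.Hensel.PairBasic
import Mathlib.LinearAlgebra.Matrix.ToLin
import Mathlib.LinearAlgebra.Matrix.Charpoly.Basic
import Mathlib.LinearAlgebra.TensorProduct.Pi
import Mathlib.RingTheory.AdjoinRoot
import Mathlib.RingTheory.Finiteness.Projective
import Mathlib.Algebra.Module.Projective
import Mathlib.Tactic.NoncommRing

/-!
# Projective modules over `A[1/t] → S[1/t]` when `A → S` is bijective modulo all powers of `t`
-/

set_option autoImplicit false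
set_option linter.style.haveILetI false

universe u

open TensorProduct Polynomial

namespace Groth.Agent.ApproxMod

/-- Two projective modules are isomorphic when nearly inverse matrices connect them. -/
theorem equiv_of_matrices {R : Type u} [CommRing R] {m n : ℕ} {M : Type u} [AddCommGroup M] [Module R M]
    {N : Type u} [AddCommGroup N] [Module R N]
    (iM : M →ₗ[R] (Fin m → R)) (pM : (Fin m → R) →ₗ[R] M) (hM : pM ∘ₗ iM = LinearMap.id)
    (iN : N →ₗ[R] (Fin n → R)) (pN : (Fin n → R) →ₗ[R] N) (hN : pN ∘ₗ iN = LinearMap.id)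
    (eM : Matrix (Fin m) (Fin m) R) (eN : Matrix (Fin n) (Fin n) R)
    (hiM : Matrix.toLin' eM = iM ∘ₗ pM) (hiN : Matrix.toLin' eN = iN ∘ₗ pN)
    (a : Matrix (Fin n) (Fin m) R) (b : Matrix (Fin m) (Fin n) R)
    (ha1 : eN * a = a) (ha2 : a * eM = a) (hb1 : eM * b = b) (hb2 : b * eN = b)
    (hu : IsUnit (1 + (b * a - eM))) (hv : IsUnit (1 + (a * b - eN))) : Nonempty (M ≃ₗ[R] N) := by
  have key : ∀ {m n : ℕ} {M : Type u} [AddCommGroup M] [Module R M] {N : Type u} [AddCommGroup N] [Module R N]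
      (iM : M →ₗ[R] (Fin m → R)) (pM : (Fin m → R) →ₗ[R] M), pM ∘ₗ iM = LinearMap.id →
      ∀ (iN : N →ₗ[R] (Fin n → R)) (pN : (Fin n → R) →ₗ[R] N) (eM : Matrix (Fin m) (Fin m) R)
      (eN : Matrix (Fin n) (Fin n) R), Matrix.toLin' eM = iM ∘ₗ pM → Matrix.toLin' eN = iN ∘ₗ pN →
      ∀ (a : Matrix (Fin n) (Fin m) R) (b : Matrix (Fin m) (Fin n) R),
      eN * a = a → a * eM = a → eM * b = b → IsUnit (1 + (b * a - eM)) →
      Function.Bijective ((pM ∘ₗ Matrix.toLin' b ∘ₗ iN) ∘ₗ (pN ∘ₗ Matrix.toLin' a ∘ₗ iM)) := by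
    intro m n M _ _ N _ _ iM pM hM iN pN eM eN hiM hiN a b ha1 ha2 hb1 hu
    obtain ⟨w, hw⟩ := hu
    let v : Matrix (Fin m) (Fin m) R := ((w⁻¹ : (Matrix (Fin m) (Fin m) R)ˣ) : Matrix (Fin m) (Fin m) R)
    have hwv : (1 + (b * a - eM)) * v = 1 := by rw [← hw]; exact w.mul_inv
    have hvw : v * (1 + (b * a - eM)) = 1 := by rw [← hw]; exact w.inv_mul
    have hee : eM * eM = eM := Matrix.toLin'.injective (by
      rw [Matrix.toLin'_mul, hiM, LinearMap.comp_assoc, ← LinearMap.comp_assoc pM, hM, LinearMap.id_comp])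
    have hba1 : eM * (b * a) = b * a := by rw [← Matrix.mul_assoc, hb1]
    have hba2 : b * a * eM = b * a := by rw [Matrix.mul_assoc, ha2]
    have h1 : eM * (1 + (b * a - eM)) = b * a := by rw [mul_add, mul_sub, mul_one, hba1, hee]; abel
    have h2 : (1 + (b * a - eM)) * eM = b * a := by rw [add_mul, sub_mul, one_mul, hba2, hee]; abel
    have h3 : b * a * v = eM := by rw [← h1, mul_assoc, hwv, mul_one]
    have h4 : v * (b * a) = eM := by rw [← h2, ← mul_assoc, hvw, one_mul]
    have hGF : (pM ∘ₗ Matrix.toLin' b ∘ₗ iN) ∘ₗ (pN ∘ₗ Matrix.toLin' a ∘ₗ iM) =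
        pM ∘ₗ Matrix.toLin' (b * a) ∘ₗ iM := by
      conv_rhs => rw [← ha1, Matrix.toLin'_mul, Matrix.toLin'_mul, hiN]
      simp only [LinearMap.comp_assoc]
    rw [hGF]
    have hpp : ∀ f : (Fin m → R) →ₗ[R] (Fin m → R),
        (pM ∘ₗ f ∘ₗ iM) ∘ₗ (pM ∘ₗ Matrix.toLin' v ∘ₗ iM) = pM ∘ₗ (f ∘ₗ Matrix.toLin' eM ∘ₗ Matrix.toLin' v) ∘ₗ iM := by
      intro f; rw [hiM]; simp only [LinearMap.comp_assoc]
    have hpp' : ∀ f : (Fin m → R) →ₗ[R] (Fin m → R),
        (pM ∘ₗ Matrix.toLin' v ∘ₗ iM) ∘ₗ (pM ∘ₗ f ∘ₗ iM) = pM ∘ₗ (Matrix.toLin' v ∘ₗ Matrix.toLin' eM ∘ₗ f) ∘ₗ iM := by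
      intro f; rw [hiM]; simp only [LinearMap.comp_assoc]
    have hid : pM ∘ₗ Matrix.toLin' eM ∘ₗ iM = LinearMap.id := by
      rw [hiM, LinearMap.comp_assoc, hM, LinearMap.comp_id, hM]
    refine Function.bijective_iff_has_inverse.2 ⟨pM ∘ₗ Matrix.toLin' v ∘ₗ iM, fun x => ?_, fun x => ?_⟩
    · have e := hpp' (Matrix.toLin' (b * a))
      rw [← Matrix.toLin'_mul, ← Matrix.toLin'_mul, hba1, h4, hid] at e
      exact LinearMap.congr_fun e x
    · have e := hpp (Matrix.toLin' (b * a))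
      rw [← Matrix.toLin'_mul, ← Matrix.toLin'_mul, ← mul_assoc, hba2, h3, hid] at e
      exact LinearMap.congr_fun e x
  have h1 := key iM pM hM iN pN eM eN hiM hiN a b ha1 ha2 hb1 hu
  have h2 := key iN pN hN iM pM eN eM hiN hiM b a hb1 hb2 ha1 hv
  rw [LinearMap.coe_comp] at h1 h2
  exact ⟨LinearEquiv.ofBijective (pN ∘ₗ Matrix.toLin' a ∘ₗ iM) ⟨h1.1.of_comp, h2.2.of_comp⟩⟩

theorem exists_presentation {R : Type u} [CommRing R] (M : Type u) [AddCommGroup M] [Module R M]
    [Module.Finite R M] [Module.Projective R M] :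
    ∃ (n : ℕ) (i : M →ₗ[R] (Fin n → R)) (p : (Fin n → R) →ₗ[R] M), p ∘ₗ i = LinearMap.id := by
  obtain ⟨n, p, i, -, -, h⟩ := Module.Finite.exists_comp_eq_id_of_projective R M
  exact ⟨n, i, p, h⟩

/-- The module cut out by an idempotent matrix. -/
theorem exists_module {R : Type u} [CommRing R] {n : ℕ} (e : Matrix (Fin n) (Fin n) R) (he : e * e = e) :
    ∃ (M : Type u) (_ : AddCommGroup M) (_ : Module R M) (i : M →ₗ[R] (Fin n → R)) (p : (Fin n → R) →ₗ[R] M),
      Module.Finite R M ∧ Module.Projective R M ∧ p ∘ₗ i = LinearMap.id ∧ Matrix.toLin' e = i ∘ₗ p := by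
  let f := Matrix.toLin' e
  have hfix : f.rangeRestrict ∘ₗ (LinearMap.range f).subtype = LinearMap.id := by
    ext ⟨x, y, rfl⟩
    show f (f y) _ = f y _
    rw [← LinearMap.comp_apply, ← Matrix.toLin'_mul, he]
  exact ⟨LinearMap.range f, inferInstance, inferInstance, (LinearMap.range f).subtype, f.rangeRestrict,
    Module.Finite.of_surjective f.rangeRestrict f.surjective_rangeRestrict,
    Module.Projective.of_split _ _ hfix, hfix, rfl⟩

section BaseChange

variable {R S : Type u} [CommRing R] [CommRing S] [Algebra R S] {M : Type u} [AddCommGroup M] [Module R M]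

theorem exists_baseChange_presentation {n : ℕ} (i : M →ₗ[R] (Fin n → R)) (p : (Fin n → R) →ₗ[R] M)
    (h : p ∘ₗ i = LinearMap.id) (e : Matrix (Fin n) (Fin n) R) (he : Matrix.toLin' e = i ∘ₗ p) :
    ∃ (i' : S ⊗[R] M →ₗ[S] (Fin n → S)) (p' : (Fin n → S) →ₗ[S] S ⊗[R] M),
      p' ∘ₗ i' = LinearMap.id ∧ Matrix.toLin' (e.map (algebraMap R S)) = i' ∘ₗ p' := by
  let β : S ⊗[R] (Fin n → R) ≃ₗ[S] (Fin n → S) := TensorProduct.piScalarRight R S S (Fin n)
  refine ⟨β.toLinearMap ∘ₗ i.baseChange S, p.baseChange S ∘ₗ β.symm.toLinearMap, ?_, ?_⟩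
  · refine LinearMap.ext fun x => ?_
    simp only [LinearMap.comp_apply, LinearEquiv.coe_coe, LinearEquiv.symm_apply_apply]
    rw [← LinearMap.comp_apply, ← LinearMap.baseChange_comp, h, LinearMap.baseChange_id]
  · rw [show (β.toLinearMap ∘ₗ i.baseChange S) ∘ₗ p.baseChange S ∘ₗ β.symm.toLinearMap =
      β.toLinearMap ∘ₗ (i ∘ₗ p).baseChange S ∘ₗ β.symm.toLinearMap by
        rw [LinearMap.baseChange_comp]; simp only [LinearMap.comp_assoc], ← he]
    refine LinearMap.pi_ext' fun j => LinearMap.ext_ring ?_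
    have hsym : β.symm (Pi.single j (1 : S)) = (1 : S) ⊗ₜ[R] Pi.single j (1 : R) := by
      rw [LinearEquiv.symm_apply_eq]
      ext k
      rcases eq_or_ne k j with rfl | hk
      · simp [β]
      · simp [β, hk]
    ext k
    simp only [LinearMap.comp_apply, LinearMap.coe_single, LinearEquiv.coe_coe]
    rw [hsym]
    simp [β, Algebra.algebraMap_eq_smul_one]

end BaseChange

/-- `A → S` is bijective modulo all powers of `t`, which lies in both Jacobson radicals. -/
structure Data {A S A' S' : Type u} [CommRing A] [CommRing S] [CommRing A'] [CommRing S'] [Algebra A A']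
    [Algebra S S'] [Algebra A' S'] (φ : A →+* S) (t : A) : Prop where
  comm : ∀ a, algebraMap A' S' (algebraMap A A' a) = algebraMap S S' (φ a)
  jac : t ∈ Ideal.jacobson (⊥ : Ideal A)
  jac' : φ t ∈ Ideal.jacobson (⊥ : Ideal S)
  inj : ∀ (M : ℕ) x, φ x ∈ Ideal.span {φ t ^ M} → x ∈ Ideal.span {t ^ M}
  surj : ∀ (M : ℕ) s, ∃ a, s - φ a ∈ Ideal.span {φ t ^ M}

section Main

variable {A S A' S' : Type u} [CommRing A] [CommRing S] [CommRing A'] [CommRing S'] [Algebra A A']
  [Algebra S S'] [Algebra A' S'] {φ : A →+* S} {t : A} [IsLocalization.Away t A']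
  [IsLocalization.Away (φ t) S'] (D : Data (A' := A') (S' := S') φ t)

local notation "ψ" => algebraMap A' S'

include D

theorem dense {m n : Type*} [Finite m] [Finite n] (X : Matrix m n S') (k : ℕ) :
    ∃ X₀ : Matrix m n A', Small (φ t) k (X₀.map ψ - X) := by
  obtain ⟨b, C, hC⟩ := exists_bound (s := φ t) X
  choose a ha using fun i j => D.surj (k + b) (C i j)
  choose σ hσ using fun i j => Ideal.mem_span_singleton'.1 (ha i j)
  obtain ⟨w, hw⟩ := (IsLocalization.Away.algebraMap_isUnit (S := A') t).exists_right_inv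
  refine ⟨Matrix.of fun i j => algebraMap A A' (a i j) * w ^ b, -Matrix.of σ, ?_⟩
  ext i j
  have hC' := congrFun (congrFun hC i) j
  simp only [Matrix.smul_apply, Matrix.map_apply, smul_eq_mul] at hC'
  have hu : IsUnit (algebraMap S S' (φ t)) := IsLocalization.Away.algebraMap_isUnit (φ t)
  have hw' : algebraMap S S' (φ t) * ψ w = 1 := by rw [← D.comm, ← map_mul, hw, map_one]
  have hσ' := congrArg (algebraMap S S') (hσ i j)
  simp only [map_mul, map_pow, map_sub] at hσ'
  simp only [Matrix.sub_apply, Matrix.smul_apply, Matrix.map_apply, Matrix.of_apply, Matrix.neg_apply, smul_eq_mul,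
    map_mul, map_pow, D.comm, map_neg]
  refine (hu.pow b).mul_left_cancel ?_
  have hwb : algebraMap S S' (φ t) ^ b * ψ w ^ b = 1 := by rw [← mul_pow, hw', one_pow]
  linear_combination algebraMap S S' (φ (a i j)) * hwb - hC' + hσ'

theorem descend {m n : Type*} [Finite m] [Finite n] {X : Matrix m n A'} {k : ℕ} (h : Small (φ t) k (X.map ψ)) :
    Small t k X := by
  obtain ⟨E, hE⟩ := h
  obtain ⟨b, C, hC⟩ := exists_bound (s := t) X
  have hz : ∀ i j, ∃ c, algebraMap A A' (C i j) = algebraMap A A' (t ^ (k + b) * c) := by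
    intro i j
    have h1 : algebraMap S S' (φ (C i j)) = algebraMap S S' (φ t ^ (k + b) * E i j) := by
      have hC' := congrFun (congrFun hC i) j
      simp only [Matrix.smul_apply, Matrix.map_apply, smul_eq_mul] at hC'
      have hE' := congrFun (congrFun hE i) j
      simp only [Matrix.smul_apply, Matrix.map_apply, smul_eq_mul] at hE'
      rw [← D.comm, ← hC', map_mul, map_pow, D.comm, hE', map_mul, map_pow, pow_add]
      ring
    obtain ⟨⟨_, e, rfl⟩, he⟩ := (IsLocalization.eq_iff_exists (Submonoid.powers (φ t)) S').1 h1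
    have h2 : φ (t ^ e * C i j) ∈ Ideal.span {φ t ^ (e + (k + b))} := by
      rw [map_mul, map_pow]
      exact Ideal.mem_span_singleton'.2 ⟨E i j, by
        show E i j * φ t ^ (e + (k + b)) = φ t ^ e * φ (C i j)
        rw [he, pow_add]; ring⟩
    obtain ⟨c, hc⟩ := Ideal.mem_span_singleton'.1 (D.inj _ _ h2)
    refine ⟨c, ((IsLocalization.Away.algebraMap_isUnit (S := A') t).pow e).mul_left_cancel ?_⟩
    rw [← map_pow, ← map_mul, ← map_mul, ← hc, pow_add]
    ring_nf
  choose c hc using hz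
  refine ⟨Matrix.of c, ?_⟩
  ext i j
  have hC' := congrFun (congrFun hC i) j
  simp only [Matrix.smul_apply, Matrix.map_apply, smul_eq_mul] at hC'
  rw [hc, map_mul, map_pow, pow_add] at hC'
  simp only [Matrix.smul_apply, Matrix.map_apply, Matrix.of_apply, smul_eq_mul]
  refine ((IsLocalization.Away.algebraMap_isUnit (S := A') t).pow b).mul_left_cancel ?_
  linear_combination hC'

/-- Isomorphism classes of projective modules inject. -/
theorem iso_descends (M N : Type u) [AddCommGroup M] [Module A' M] [Module.Finite A' M] [Module.Projective A' M]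
    [AddCommGroup N] [Module A' N] [Module.Finite A' N] [Module.Projective A' N]
    (h : Nonempty (S' ⊗[A'] M ≃ₗ[S'] S' ⊗[A'] N)) : Nonempty (M ≃ₗ[A'] N) := by
  obtain ⟨Φ⟩ := h
  obtain ⟨m, iM, pM, hM⟩ := exists_presentation (R := A') M
  obtain ⟨n, iN, pN, hN⟩ := exists_presentation (R := A') N
  obtain ⟨eM, heM⟩ := Matrix.toLin'.surjective (iM ∘ₗ pM)
  obtain ⟨eN, heN⟩ := Matrix.toLin'.surjective (iN ∘ₗ pN)
  obtain ⟨iM', pM', hM', heM'⟩ := exists_baseChange_presentation (S := S') iM pM hM eM heM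
  obtain ⟨iN', pN', hN', heN'⟩ := exists_baseChange_presentation (S := S') iN pN hN eN heN
  set EM := eM.map ψ
  set EN := eN.map ψ
  let a' := LinearMap.toMatrix' (iN' ∘ₗ Φ.toLinearMap ∘ₗ pM')
  let b' := LinearMap.toMatrix' (iM' ∘ₗ Φ.symm.toLinearMap ∘ₗ pN')
  have hpMM : pM ∘ₗ iM ∘ₗ pM = pM := by rw [← LinearMap.comp_assoc, hM, LinearMap.id_comp]
  have hpNN : pN ∘ₗ iN ∘ₗ pN = pN := by rw [← LinearMap.comp_assoc, hN, LinearMap.id_comp]
  have heM2 : eM * eM = eM := Matrix.toLin'.injective (by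
    rw [Matrix.toLin'_mul, heM, LinearMap.comp_assoc, hpMM])
  have heN2 : eN * eN = eN := Matrix.toLin'.injective (by
    rw [Matrix.toLin'_mul, heN, LinearMap.comp_assoc, hpNN])
  have hab : a' * b' = EN := Matrix.toLin'.injective (by
    rw [Matrix.toLin'_mul, Matrix.toLin'_toMatrix', Matrix.toLin'_toMatrix', heN']
    simp only [LinearMap.comp_assoc]
    rw [← LinearMap.comp_assoc _ iM' pM', hM', LinearMap.id_comp, ← LinearMap.comp_assoc _ _ Φ.toLinearMap]
    rw [LinearEquiv.comp_symm, LinearMap.id_comp])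
  have hba : b' * a' = EM := Matrix.toLin'.injective (by
    rw [Matrix.toLin'_mul, Matrix.toLin'_toMatrix', Matrix.toLin'_toMatrix', heM']
    simp only [LinearMap.comp_assoc]
    rw [← LinearMap.comp_assoc _ iN' pN', hN', LinearMap.id_comp, ← LinearMap.comp_assoc _ _ Φ.symm.toLinearMap]
    rw [LinearEquiv.symm_comp, LinearMap.id_comp])
  have ha : EN * a' * EM = a' := Matrix.toLin'.injective (by
    rw [Matrix.toLin'_mul, Matrix.toLin'_mul, Matrix.toLin'_toMatrix', heM', heN']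
    simp only [LinearMap.comp_assoc]
    rw [← LinearMap.comp_assoc _ iM' pM', hM', LinearMap.id_comp, ← LinearMap.comp_assoc _ iN' pN', hN',
      LinearMap.id_comp])
  have hb : EM * b' * EN = b' := Matrix.toLin'.injective (by
    rw [Matrix.toLin'_mul, Matrix.toLin'_mul, Matrix.toLin'_toMatrix', heM', heN']
    simp only [LinearMap.comp_assoc]
    rw [← LinearMap.comp_assoc _ iN' pN', hN', LinearMap.id_comp, ← LinearMap.comp_assoc _ iM' pM', hM',
      LinearMap.id_comp])
  obtain ⟨cEM, hcEM⟩ := exists_mul_left (s := φ t) (n := Fin n) EM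
  obtain ⟨cEM', hcEM'⟩ := exists_mul_right (s := φ t) (l := Fin n) EM
  obtain ⟨cEN, hcEN⟩ := exists_mul_left (s := φ t) (n := Fin m) EN
  obtain ⟨cEN', hcEN'⟩ := exists_mul_right (s := φ t) (l := Fin m) EN
  obtain ⟨cb, hcb⟩ := exists_mul_left (s := φ t) (n := Fin m) b'
  obtain ⟨cb', hcb'⟩ := exists_mul_right (s := φ t) (l := Fin n) b'
  obtain ⟨ca, hca⟩ := exists_mul_left (s := φ t) (n := Fin n) a'
  obtain ⟨ca', hca'⟩ := exists_mul_right (s := φ t) (l := Fin m) a'
  let K := 1 + cb + cb' + ca + ca'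
  obtain ⟨ã, hã⟩ := dense D a' (K + cEM' + cEN)
  obtain ⟨bt, hbt⟩ := dense D b' (K + cEN' + cEM)
  let a₁ := eN * ã * eM
  let b₁ := eM * bt * eN
  have hA : Small (φ t) K (a₁.map ψ - a') := by
    have h1 : a₁.map ψ - a' = EN * (ã.map ψ - a') * EM := by
      rw [Matrix.mul_sub, Matrix.sub_mul, ha]
      simp only [a₁, EN, EM, Matrix.map_mul]
    rw [h1]
    exact hcEM' _ _ (hcEN _ _ hã)
  have hB : Small (φ t) K (b₁.map ψ - b') := by
    have h1 : b₁.map ψ - b' = EM * (bt.map ψ - b') * EN := by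
      rw [Matrix.mul_sub, Matrix.sub_mul, hb]
      simp only [b₁, EN, EM, Matrix.map_mul]
    rw [h1]
    exact hcEN' _ _ (hcEM _ _ hbt)
  have hu : Small (φ t) 1 ((b₁ * a₁ - eM).map ψ) := by
    have h1 : (b₁ * a₁ - eM).map ψ =
        b' * (a₁.map ψ - a') + (b₁.map ψ - b') * a' + (b₁.map ψ - b') * (a₁.map ψ - a') := by
      rw [Matrix.map_sub _ (map_sub _), Matrix.map_mul, Matrix.mul_sub, Matrix.sub_mul, Matrix.sub_mul,
        Matrix.mul_sub, Matrix.mul_sub, show eM.map ψ = b' * a' from hba.symm]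
      abel
    rw [h1]
    exact ((hcb _ _ (hA.of_le (by omega))).add (hca' _ _ (hB.of_le (by omega)))).add
      ((hB.mul hA).of_le (by omega))
  have hv : Small (φ t) 1 ((a₁ * b₁ - eN).map ψ) := by
    have h1 : (a₁ * b₁ - eN).map ψ =
        a' * (b₁.map ψ - b') + (a₁.map ψ - a') * b' + (a₁.map ψ - a') * (b₁.map ψ - b') := by
      rw [Matrix.map_sub _ (map_sub _), Matrix.map_mul, Matrix.mul_sub, Matrix.sub_mul, Matrix.sub_mul,
        Matrix.mul_sub, Matrix.mul_sub, show eN.map ψ = a' * b' from hab.symm]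
      abel
    rw [h1]
    exact ((hca _ _ (hB.of_le (by omega))).add (hcb' _ _ (hA.of_le (by omega)))).add
      ((hA.mul hB).of_le (by omega))
  obtain ⟨u, hu1, hu2, -⟩ := isUnit_one_add D.jac le_rfl (descend D hu)
  obtain ⟨v, hv1, hv2, -⟩ := isUnit_one_add D.jac le_rfl (descend D hv)
  exact equiv_of_matrices iM pM hM iN pN hN eM eN heM heN a₁ b₁
    (by simp only [a₁, ← Matrix.mul_assoc, heN2]) (by simp only [a₁, Matrix.mul_assoc, heM2])
    (by simp only [b₁, ← Matrix.mul_assoc, heM2]) (by simp only [b₁, Matrix.mul_assoc, heN2])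
    ⟨⟨_, u, hu1, hu2⟩, rfl⟩ ⟨⟨_, v, hv1, hv2⟩, rfl⟩

/-- A module cut out over `A'` by an idempotent close to the one of `M'` is a form of `M'`. -/
theorem form_of_close {n : ℕ} {M' : Type u} [AddCommGroup M'] [Module S' M']
    (i' : M' →ₗ[S'] (Fin n → S')) (p' : (Fin n → S') →ₗ[S'] M') (h' : p' ∘ₗ i' = LinearMap.id)
    (E' : Matrix (Fin n) (Fin n) S') (hE' : Matrix.toLin' E' = i' ∘ₗ p') :
    ∃ K : ℕ, ∀ (e : Matrix (Fin n) (Fin n) A') (M : Type u) [AddCommGroup M] [Module A' M]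
      (i : M →ₗ[A'] (Fin n → A')) (p : (Fin n → A') →ₗ[A'] M), p ∘ₗ i = LinearMap.id →
      Matrix.toLin' e = i ∘ₗ p → Small (φ t) K (e.map ψ - E') → Nonempty (S' ⊗[A'] M ≃ₗ[S'] M') := by
  obtain ⟨c, hc⟩ := exists_mul_left (s := φ t) (n := Fin n) E'
  obtain ⟨c', hc'⟩ := exists_mul_right (s := φ t) (l := Fin n) E'
  refine ⟨1 + c + c', fun e M _ _ i p h he hsmall => ?_⟩
  obtain ⟨i₀, p₀, h₀, he₀⟩ := exists_baseChange_presentation (S := S') i p h e he
  set E := e.map ψ
  have hee : E * E = E := Matrix.toLin'.injective (by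
    rw [Matrix.toLin'_mul, he₀, LinearMap.comp_assoc, ← LinearMap.comp_assoc _ i₀ p₀, h₀, LinearMap.id_comp])
  have hee' : E' * E' = E' := Matrix.toLin'.injective (by
    rw [Matrix.toLin'_mul, hE', LinearMap.comp_assoc, ← LinearMap.comp_assoc _ i' p', h', LinearMap.id_comp])
  let d := E - E'
  have hd : Small (φ t) (1 + c + c') d := hsmall
  have h1 : Small (φ t) 1 (E * E' * (E' * E) - E) := by
    have e1 : E * E' * (E' * E) - E = -((E' * d * E') + d * d * E' + E' * d * d + d * d * d) := by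
      have : E = E' + d := by simp [d]
      rw [show E * E' * (E' * E) = E * (E' * E') * E by simp only [mul_assoc], hee']
      calc E * E' * E - E = E * E' * E - E * E * E := by rw [hee, hee]
        _ = _ := by rw [this]; noncomm_ring
    rw [e1]
    exact ((((hc' _ _ (hc _ _ (hd.of_le (by omega)))).add (hc' _ _ ((hd.mul hd).of_le (by omega)))).add
      (((hc _ _ (hd.of_le (k := 1 + c) (by omega))).mul hd).of_le (by omega))).add
      (((hd.mul hd).mul hd).of_le (by omega))).neg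
  have h2 : Small (φ t) 1 (E' * E * (E * E') - E') := by
    have e1 : E' * E * (E * E') - E' = E' * d * E' := by
      rw [show E' * E * (E * E') = E' * (E * E) * E' by simp only [mul_assoc], hee]
      calc E' * E * E' - E' = E' * E * E' - E' * E' * E' := by rw [hee', hee']
        _ = _ := by simp only [d, mul_sub, sub_mul]
    rw [e1]
    exact hc' _ _ (hc _ _ (hd.of_le (by omega)))
  obtain ⟨u, hu1, hu2, -⟩ := isUnit_one_add D.jac' le_rfl h1
  obtain ⟨v, hv1, hv2, -⟩ := isUnit_one_add D.jac' le_rfl h2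
  exact equiv_of_matrices i₀ p₀ h₀ i' p' h' E E' he₀ hE' (E' * E) (E * E')
    (by rw [← mul_assoc, hee']) (by rw [mul_assoc, hee]) (by rw [← mul_assoc, hee]) (by rw [mul_assoc, hee'])
    ⟨⟨_, u, hu1, hu2⟩, rfl⟩ ⟨⟨_, v, hv1, hv2⟩, rfl⟩

/-- Stably free modules extend. -/
theorem stablyFree_extends (M' : Type u) [AddCommGroup M'] [Module S' M']
    (hsf : ∃ n m : ℕ, Nonempty ((M' × (Fin n → S')) ≃ₗ[S'] (Fin m → S'))) :
    ∃ (M : Type u) (_ : AddCommGroup M) (_ : Module A' M), Module.Finite A' M ∧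
      (∃ n m : ℕ, Nonempty ((M × (Fin n → A')) ≃ₗ[A'] (Fin m → A'))) ∧ Nonempty (S' ⊗[A'] M ≃ₗ[S'] M') := by
  obtain ⟨n, m, ⟨eq⟩⟩ := hsf
  let i' : M' →ₗ[S'] (Fin m → S') := eq.toLinearMap ∘ₗ LinearMap.inl S' _ _
  let p' : (Fin m → S') →ₗ[S'] M' := LinearMap.fst S' _ _ ∘ₗ eq.symm.toLinearMap
  have h' : p' ∘ₗ i' = LinearMap.id := by ext x; simp [i', p']
  let P : Matrix (Fin n) (Fin m) S' := LinearMap.toMatrix' (LinearMap.snd S' _ _ ∘ₗ eq.symm.toLinearMap)
  let σ : Matrix (Fin m) (Fin n) S' := LinearMap.toMatrix' (eq.toLinearMap ∘ₗ LinearMap.inr S' _ _)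
  have hPσ : P * σ = 1 := Matrix.toLin'.injective (by
    rw [Matrix.toLin'_mul, Matrix.toLin'_toMatrix', Matrix.toLin'_toMatrix', Matrix.toLin'_one]
    refine LinearMap.ext fun x => ?_
    simp)
  let E' : Matrix (Fin m) (Fin m) S' := 1 - σ * P
  have hE' : Matrix.toLin' E' = i' ∘ₗ p' := by
    rw [show Matrix.toLin' E' = Matrix.toLin' 1 - Matrix.toLin' (σ * P) from map_sub _ _ _, Matrix.toLin'_mul,
      Matrix.toLin'_toMatrix', Matrix.toLin'_toMatrix', Matrix.toLin'_one]
    refine LinearMap.ext fun x => ?_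
    simp only [LinearMap.sub_apply, LinearMap.id_coe, id_eq, LinearMap.comp_apply, LinearEquiv.coe_coe, i', p']
    conv_lhs => arg 1; rw [← eq.apply_symm_apply x]
    rw [← map_sub]
    congr 1
    ext <;> simp
  obtain ⟨K, hK⟩ := form_of_close D i' p' h' E' hE'
  obtain ⟨cσ, hcσ⟩ := exists_mul_left (s := φ t) (n := Fin m) σ
  obtain ⟨cP, hcP⟩ := exists_mul_right (s := φ t) (l := Fin m) P
  obtain ⟨cσ', hcσ'⟩ := exists_mul_left (s := φ t) (n := Fin n) σ
  obtain ⟨cP', hcP'⟩ := exists_mul_left (s := φ t) (n := Fin n) P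
  obtain ⟨cσ'', hcσ''⟩ := exists_mul_right (s := φ t) (l := Fin n) σ
  let L := 1 + K + cσ + cP + cσ' + cP' + cσ''
  let L₂ := L + cσ' + cP' + cσ''
  obtain ⟨P₀, hP₀⟩ := dense D P L₂
  obtain ⟨σ₀, hσ₀⟩ := dense D σ L₂
  have hη : Small (φ t) L ((P₀ * σ₀ - 1).map ψ) := by
    rw [Matrix.map_sub _ (map_sub _), Matrix.map_mul, Matrix.map_one _ (map_zero _) (map_one _), ← hPσ,
      show P₀.map ψ * σ₀.map ψ - P * σ = (P₀.map ψ - P) * σ + P * (σ₀.map ψ - σ) + (P₀.map ψ - P) * (σ₀.map ψ - σ) by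
        rw [Matrix.sub_mul, Matrix.mul_sub, Matrix.sub_mul, Matrix.mul_sub, Matrix.mul_sub]; abel]
    exact ((hcσ'' _ _ (hP₀.of_le (by omega))).add (hcP' _ _ (hσ₀.of_le (by omega)))).add
      ((hP₀.mul hσ₀).of_le (by omega))
  obtain ⟨v, hv1, hv2, hv3⟩ := isUnit_one_add D.jac (show 1 ≤ L by omega) (descend D hη)
  rw [add_sub_cancel] at hv1 hv2
  let σ₁ := σ₀ * v
  have hPσ₁ : P₀ * σ₁ = 1 := by rw [← Matrix.mul_assoc, hv1]
  let e : Matrix (Fin m) (Fin m) A' := 1 - σ₁ * P₀
  have hee : e * e = e := by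
    have : σ₁ * P₀ * (σ₁ * P₀) = σ₁ * P₀ := by
      rw [Matrix.mul_assoc, ← Matrix.mul_assoc P₀, hPσ₁, Matrix.one_mul]
    simp only [e, mul_sub, sub_mul, one_mul, mul_one, this]
    abel
  have hσ₁ : Small (φ t) (K + cP) (σ₁.map ψ - σ) := by
    have e1 : σ₁.map ψ - σ = (σ₀.map ψ - σ) + σ * (v - 1).map ψ + (σ₀.map ψ - σ) * (v - 1).map ψ := by
      rw [Matrix.map_sub _ (map_sub _), Matrix.map_one _ (map_zero _) (map_one _), Matrix.mul_sub, Matrix.mul_sub,
        Matrix.mul_one, Matrix.mul_one, Matrix.sub_mul]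
      simp only [σ₁, Matrix.map_mul]
      abel
    rw [e1]
    have hv3' := hv3.map φ ψ D.comm
    exact ((hσ₀.of_le (by omega)).add (hcσ' _ _ (hv3'.of_le (by omega)))).add ((hσ₀.mul hv3').of_le (by omega))
  have hclose : Small (φ t) K (e.map ψ - E') := by
    have e1 : e.map ψ - E' =
        -((σ₁.map ψ - σ) * P + σ * (P₀.map ψ - P) + (σ₁.map ψ - σ) * (P₀.map ψ - P)) := by
      simp only [e, E', Matrix.map_sub _ (map_sub _), Matrix.map_one _ (map_zero _) (map_one _), Matrix.map_mul]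
      rw [Matrix.sub_mul, Matrix.mul_sub, Matrix.sub_mul, Matrix.mul_sub, Matrix.mul_sub]
      abel
    rw [e1]
    exact (((hcP _ _ hσ₁).add (hcσ _ _ (hP₀.of_le (by omega)))).add ((hσ₁.mul hP₀).of_le (by omega))).neg
  obtain ⟨M, _, _, i, p, hfin, -, hpi, he⟩ := exists_module e hee
  refine ⟨M, inferInstance, inferInstance, hfin, ⟨n, m, ⟨?_⟩⟩, hK e M i p hpi he hclose⟩
  have hPi : Matrix.toLin' P₀ ∘ₗ i = 0 := by
    have h1 : P₀ * e = 0 := by
      simp only [e, Matrix.mul_sub, Matrix.mul_one, ← Matrix.mul_assoc, hPσ₁, Matrix.one_mul, sub_self]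
    have h2 := congrArg (fun f : (Fin m → A') →ₗ[A'] (Fin n → A') => f ∘ₗ i) (congrArg Matrix.toLin' h1)
    simp only [Matrix.toLin'_mul, map_zero, LinearMap.zero_comp, he, LinearMap.comp_assoc] at h2
    rwa [hpi, LinearMap.comp_id] at h2
  have hpσ : p ∘ₗ Matrix.toLin' σ₁ = 0 := by
    have h1 : e * σ₁ = 0 := by
      simp only [e, Matrix.sub_mul, Matrix.one_mul, Matrix.mul_assoc, hPσ₁, Matrix.mul_one, sub_self]
    have h2 := congrArg (fun f : (Fin n → A') →ₗ[A'] (Fin m → A') => p ∘ₗ f) (congrArg Matrix.toLin' h1)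
    simp only [Matrix.toLin'_mul, map_zero, LinearMap.comp_zero, he] at h2
    rwa [← LinearMap.comp_assoc, ← LinearMap.comp_assoc, hpi, LinearMap.id_comp] at h2
  refine LinearEquiv.ofLinear (i.coprod (Matrix.toLin' σ₁)) (p.prod (Matrix.toLin' P₀)) ?_ ?_
  · rw [LinearMap.coprod_comp_prod, ← he, ← Matrix.toLin'_mul, ← map_add, sub_add_cancel, Matrix.toLin'_one]
  · refine LinearMap.prod_ext ?_ ?_
    · refine LinearMap.ext fun x => Prod.ext ?_ ?_
      · simpa using LinearMap.congr_fun hpi x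
      · simpa using LinearMap.congr_fun hPi x
    · refine LinearMap.ext fun y => Prod.ext ?_ ?_
      · simpa using LinearMap.congr_fun hpσ y
      · simp [Matrix.toLin'_apply, Matrix.mulVec_mulVec, hPσ₁]

/-- Over a henselian pair every idempotent matrix is close to one from `A'`. -/
theorem exists_idempotent_close [HenselianRing A (Ideal.span {t})] {n : ℕ} (E' : Matrix (Fin n) (Fin n) S')
    (hE' : E' * E' = E') (K : ℕ) :
    ∃ e : Matrix (Fin n) (Fin n) A', e * e = e ∧ Small (φ t) K (e.map ψ - E') := by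
  obtain ⟨c, hc⟩ := exists_mul_left (s := φ t) (n := Fin n) E'
  obtain ⟨c', hc'⟩ := exists_mul_right (s := φ t) (l := Fin n) E'
  obtain ⟨x, hx⟩ := dense D E' (1 + K + c + c + c' + c')
  set d := x.map ψ - E' with hd
  have hη : Small (φ t) (1 + K + c) ((x * x - x).map ψ) := by
    have e1 : (x * x - x).map ψ = E' * d + d * E' + d * d - d := by
      rw [Matrix.map_sub _ (map_sub _), Matrix.map_mul, show x.map ψ = E' + d by simp [d]]
      calc (E' + d) * (E' + d) - (E' + d) = E' * E' + E' * d + d * E' + d * d - (E' + d) := by noncomm_ring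
        _ = _ := by rw [hE']; abel
    rw [e1]
    refine (Small.add ?_ ((hx.mul hx).of_le (by omega))).sub (hx.of_le (by omega))
    refine Small.add ?_ (hc' _ _ (hx.of_le (by omega)))
    exact hc _ _ (hx.of_le (by omega))
  obtain ⟨C, hC⟩ := descend D hη
  let P := A[X] ⧸ Ideal.span {C.charpoly}
  haveI : Module.Finite A P := (Matrix.charpoly_monic C).finite_adjoinRoot
  haveI : Algebra.IsIntegral A P := Algebra.IsIntegral.of_finite A P
  haveI hP : HenselianRing P (Ideal.span {algebraMap A P t}) := by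
    have h := Hensel.henselianRing_of_isIntegral' (Ideal.span {t}) P
    rwa [Ideal.map_span, Set.image_singleton] at h
  let g : P →+* Matrix (Fin n) (Fin n) A := Ideal.Quotient.lift _ (Polynomial.aeval C).toRingHom fun a ha => by
    obtain ⟨q, rfl⟩ := Ideal.mem_span_singleton'.1 ha
    show Polynomial.aeval C (q * C.charpoly) = 0
    rw [map_mul, Matrix.aeval_self_charpoly, mul_zero]
  let G : P →+* Matrix (Fin n) (Fin n) A' := (algebraMap A A').mapMatrix.comp g
  let T : P := algebraMap A P t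
  let w : P := T ^ (1 + K + c) * Ideal.Quotient.mk _ X
  have hTt : ∀ Y, G T * Y = algebraMap A A' t • Y := fun Y => by
    have hg : g T = algebraMap A (Matrix (Fin n) (Fin n) A) t := (Polynomial.aeval C).commutes t
    show (algebraMap A A').mapMatrix (g T) * Y = _
    rw [hg, show (algebraMap A A').mapMatrix (algebraMap A (Matrix (Fin n) (Fin n) A) t) = algebraMap A A' t • 1 by
      ext i j; rcases eq_or_ne i j with rfl | hij <;> simp [Matrix.algebraMap_matrix_apply, *], smul_mul_assoc, one_mul]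
  have hTpow : ∀ (k : ℕ) Y, G (T ^ k) * Y = algebraMap A A' t ^ k • Y := by
    intro k
    induction k with
    | zero => intro Y; simp
    | succ k ih => intro Y; rw [pow_succ, map_mul, mul_assoc, hTt, mul_smul_comm, ih, smul_smul, pow_succ']
  have hGX : G (Ideal.Quotient.mk _ X) = C.map (algebraMap A A') := by
    show (algebraMap A A').mapMatrix (Polynomial.aeval C (X : A[X])) = _
    rw [Polynomial.aeval_X]; rfl
  have hw : G w = x * x - x := by rw [hC, ← hGX, ← hTpow, ← map_mul]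
  have hwmem : w ∈ Ideal.span {T} := by
    show T ^ (1 + K + c) * _ ∈ _
    rw [show 1 + K + c = (K + c) + 1 by omega, pow_succ', mul_assoc]
    exact Ideal.mul_mem_right _ _ (Ideal.mem_span_singleton_self T)
  obtain ⟨q, hq⟩ : IsUnit (w * 4 + 1) :=
    Ideal.mem_jacobson_bot.1 (HenselianRing.jac (I := Ideal.span {T}) hwmem) 4
  obtain ⟨b, hb⟩ : ∃ b, b = w * ↑q⁻¹ := ⟨_, rfl⟩
  have hbmem : b ∈ Ideal.span {T} := hb ▸ Ideal.mul_mem_right _ _ hwmem
  obtain ⟨y, hy, hy0⟩ := HenselianRing.is_henselian (I := Ideal.span {T})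
    (Polynomial.X ^ 2 + Polynomial.X + Polynomial.C b : P[X]) (by monicity!) 0 (by simpa using hbmem) (by simp)
  rw [IsRoot, eval_add, eval_add, eval_pow, eval_X, eval_C] at hy
  rw [sub_zero] at hy0
  obtain ⟨r, hr⟩ : IsUnit (y * 1 + 1) := Ideal.mem_jacobson_bot.1 (HenselianRing.jac (I := Ideal.span {T}) hy0) 1
  obtain ⟨γ, hγ⟩ : ∃ γ, y = T ^ (1 + K + c) * γ := ⟨-(Ideal.Quotient.mk (Ideal.span {C.charpoly}) X * ((q⁻¹ : Pˣ) : P) * ((r⁻¹ : Pˣ) : P)), by
    have h1 : y * (r : P) = -b := by rw [hr]; linear_combination hy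
    calc y = y * (r : P) * ↑r⁻¹ := by rw [Units.mul_inv_cancel_right]
      _ = _ := by rw [h1, hb]; simp only [w]; ring⟩
  have h1 : w + (w * 4 + 1) * (y * y + y) = 0 := by
    have hqb : (q : P) * b = w := by rw [hb, mul_left_comm, Units.mul_inv, mul_one]
    rw [← hq]
    linear_combination (q : P) * hy - hqb
  have hcomm : ∀ z : P, Commute x (G z) := by
    have hX : Commute x (C.map (algebraMap A A')) := by
      have h2 : algebraMap A A' t ^ (1 + K + c) • (x * C.map (algebraMap A A')) =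
          algebraMap A A' t ^ (1 + K + c) • (C.map (algebraMap A A') * x) := by
        rw [← mul_smul_comm, ← smul_mul_assoc, ← hC, mul_sub, sub_mul, mul_assoc]
      exact ((IsLocalization.Away.algebraMap_isUnit (S := A') t).pow (1 + K + c)).smul_left_cancel.1 h2
    intro z
    obtain ⟨f, rfl⟩ := Ideal.Quotient.mk_surjective z
    induction f using Polynomial.induction_on with
    | C a =>
      have h3 : G (Ideal.Quotient.mk _ (Polynomial.C a)) = algebraMap A A' a • 1 := by
        show (algebraMap A A').mapMatrix (Polynomial.aeval C (Polynomial.C a)) = _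
        rw [Polynomial.aeval_C]
        ext i j
        rcases eq_or_ne i j with rfl | hij <;> simp [Matrix.algebraMap_matrix_apply, *]
      rw [h3]
      exact (Commute.one_right x).smul_right _
    | add p q hp hq => rw [map_add, map_add]; exact hp.add_right hq
    | monomial k a ha => rw [pow_succ, ← mul_assoc, map_mul, map_mul, hGX]; exact ha.mul_right hX
  have h2 := congrArg G h1
  simp only [map_add, map_mul, map_zero, map_one, map_ofNat, hw] at h2
  refine ⟨x + (2 * x - 1) * G y, ?_, ?_⟩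
  · set Y := G y
    have hc : x * Y = Y * x := hcomm y
    have hz : (2 * x - 1) * Y = Y * (2 * x - 1) := by
      rw [sub_mul, mul_sub, one_mul, mul_one, two_mul, mul_add, add_mul, hc]
    have hzz : (2 * x - 1) * (2 * x - 1) = (x * x - x) * 4 + 1 := by noncomm_ring
    calc (x + (2 * x - 1) * Y) * (x + (2 * x - 1) * Y)
        = x * x + x * ((2 * x - 1) * Y) + (2 * x - 1) * (Y * x) + (2 * x - 1) * (Y * (2 * x - 1)) * Y := by
          noncomm_ring
      _ = x * x + ((2 * x - 1) * x + (2 * x - 1) * x) * Y + (2 * x - 1) * (2 * x - 1) * (Y * Y) := by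
          rw [← hc, ← hz]; noncomm_ring
      _ = (x + (2 * x - 1) * Y) + ((x * x - x) + (2 * x - 1) * (2 * x - 1) * (Y * Y + Y)) := by
          noncomm_ring
      _ = x + (2 * x - 1) * Y := by rw [hzz, h2, add_zero]
  · have hyS : Small (φ t) (1 + K + c) ((G y).map ψ) := by
      refine (Small.map φ ψ D.comm ⟨g γ, ?_⟩)
      rw [hγ, map_mul, hTpow]
      rfl
    have e1 : (x + (2 * x - 1) * G y).map ψ - E' = d + ((E' + d) + (E' + d)) * (G y).map ψ - (G y).map ψ := by
      rw [show E' + d = x.map ψ by simp [d], Matrix.map_add _ (map_add _), Matrix.map_mul,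
        Matrix.map_sub _ (map_sub _), two_mul, Matrix.map_add _ (map_add _),
        Matrix.map_one _ (map_zero _) (map_one _), sub_mul, one_mul, hd]
      abel
    rw [e1, add_mul, add_mul]
    have h3 : Small (φ t) K (E' * (G y).map ψ + d * (G y).map ψ) :=
      (hc _ _ (hyS.of_le (by omega))).add ((hx.mul hyS).of_le (by omega))
    exact ((hx.of_le (by omega)).add (h3.add h3)).sub (hyS.of_le (by omega))

/-- Over a henselian pair all projective modules extend. -/
theorem projective_extends [HenselianRing A (Ideal.span {t})] (M' : Type u) [AddCommGroup M'] [Module S' M']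
    [Module.Finite S' M'] [Module.Projective S' M'] :
    ∃ (M : Type u) (_ : AddCommGroup M) (_ : Module A' M),
      Module.Finite A' M ∧ Module.Projective A' M ∧ Nonempty (S' ⊗[A'] M ≃ₗ[S'] M') := by
  obtain ⟨n, i', p', h'⟩ := exists_presentation (R := S') M'
  obtain ⟨E', hE'⟩ := Matrix.toLin'.surjective (i' ∘ₗ p')
  obtain ⟨K, hK⟩ := form_of_close D i' p' h' E' hE'
  obtain ⟨e, he, hclose⟩ := exists_idempotent_close D E' (Matrix.toLin'.injective (by
    rw [Matrix.toLin'_mul, hE', LinearMap.comp_assoc, ← LinearMap.comp_assoc _ i' p', h', LinearMap.id_comp])) K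
  obtain ⟨M, _, _, i, p, hfin, hproj, hpi, hei⟩ := exists_module e he
  exact ⟨M, inferInstance, inferInstance, hfin, hproj, hK e M i p hpi hei hclose⟩

end Main

end Groth.Agent.ApproxMod
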