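import Mathlib.RingTheory.Localization.Integer
import Mathlib.RingTheory.Localization.Away.Basic
import Mathlib.LinearAlgebra.Matrix.NonsingularInverse
import Mathlib.RingTheory.Jacobson.Ideal
import Mathlib.RingTheory.Ideal.Quotient.Operations

/-!
# Matrices over `R[1/s]` which are small in the `s`-adic topology
-/

set_option autoImplicit false

universe u

namespace Groth.Agent.ApproxMod

variable {R R' : Type u} [CommRing R] [CommRing R'] [Algebra R R'] (s : R)
variable {l m n : Type*}

/-- `X` is `s ^ k` times a matrix with entries in the image of `R`. -/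
def Small (k : ℕ) (X : Matrix m n R') : Prop :=
  ∃ C : Matrix m n R, X = (algebraMap R R' s) ^ k • C.map (algebraMap R R')

variable {s}

theorem Small.zero (k : ℕ) : Small s k (0 : Matrix m n R') := ⟨0, by ext; simp⟩

theorem Small.add {k : ℕ} {X Y : Matrix m n R'} (hX : Small s k X) (hY : Small s k Y) :
    Small s k (X + Y) := by
  obtain ⟨C, rfl⟩ := hX; obtain ⟨D, rfl⟩ := hY
  exact ⟨C + D, by rw [Matrix.map_add _ (map_add _), smul_add]⟩

theorem Small.neg {k : ℕ} {X : Matrix m n R'} (hX : Small s k X) : Small s k (-X) := by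
  obtain ⟨C, rfl⟩ := hX
  exact ⟨-C, by rw [← smul_neg]; congr 1; ext i j; simp⟩

theorem Small.sub {k : ℕ} {X Y : Matrix m n R'} (hX : Small s k X) (hY : Small s k Y) :
    Small s k (X - Y) := sub_eq_add_neg X Y ▸ hX.add hY.neg

theorem Small.of_le {k k' : ℕ} (h : k ≤ k') {X : Matrix m n R'} (hX : Small s k' X) : Small s k X := by
  obtain ⟨C, rfl⟩ := hX
  refine ⟨s ^ (k' - k) • C, ?_⟩
  ext i j
  simp only [Matrix.smul_apply, Matrix.map_apply, smul_eq_mul, map_mul, map_pow, ← mul_assoc, ← pow_add]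
  rw [Nat.add_sub_cancel' h]

theorem Small.mul [Fintype n] {k k' : ℕ} {X : Matrix m n R'} {Y : Matrix n l R'} (hX : Small s k X)
    (hY : Small s k' Y) : Small s (k + k') (X * Y) := by
  obtain ⟨C, rfl⟩ := hX; obtain ⟨D, rfl⟩ := hY
  exact ⟨C * D, by rw [Matrix.map_mul, Matrix.smul_mul, Matrix.mul_smul, smul_smul, pow_add]⟩

theorem Small.map {S S' : Type u} [CommRing S] [CommRing S'] [Algebra S S'] (φ : R →+* S) (ψ : R' →+* S')
    (h : ∀ r, ψ (algebraMap R R' r) = algebraMap S S' (φ r)) {k : ℕ} {X : Matrix m n R'} (hX : Small s k X) :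
    Small (φ s) k (X.map ψ) := by
  obtain ⟨C, rfl⟩ := hX
  refine ⟨C.map φ, ?_⟩
  ext i j
  simp only [Matrix.smul_apply, Matrix.map_apply, smul_eq_mul, map_mul, map_pow, h]

theorem isUnit_one_add [Fintype n] [DecidableEq n] (hs : s ∈ Ideal.jacobson (⊥ : Ideal R)) {k : ℕ} (hk : 1 ≤ k)
    {X : Matrix n n R'} (hX : Small s k X) :
    ∃ V : Matrix n n R', (1 + X) * V = 1 ∧ V * (1 + X) = 1 ∧ Small s k (V - 1) := by
  obtain ⟨C, rfl⟩ := hX
  let D : Matrix n n R := 1 + s ^ k • C
  have hdet : IsUnit D.det := by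
    have hmem : D.det - 1 ∈ Ideal.span {s} := by
      rw [← Ideal.Quotient.eq, RingHom.map_det]
      refine (congrArg Matrix.det ?_).trans (Matrix.det_one.trans (map_one _).symm)
      ext i j
      simp only [D, RingHom.mapMatrix_apply, Matrix.map_apply, Matrix.add_apply, Matrix.smul_apply, smul_eq_mul,
        map_add, map_mul, map_pow]
      rw [Ideal.Quotient.eq_zero_iff_mem.2 (Ideal.mem_span_singleton_self s), zero_pow (by omega), zero_mul, add_zero]
      rcases eq_or_ne i j with rfl | hij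
      · simp
      · simp [hij]
    obtain ⟨c, hc⟩ := Ideal.mem_span_singleton'.1 hmem
    have := Ideal.mem_jacobson_bot.1 hs c
    rwa [mul_comm, hc, sub_add_cancel] at this
  obtain ⟨V, hV⟩ := (Matrix.isUnit_iff_isUnit_det D).2 hdet
  let W : Matrix n n R := ((V⁻¹ : (Matrix n n R)ˣ) : Matrix n n R)
  have hmap : D.map (algebraMap R R') = 1 + algebraMap R R' s ^ k • C.map (algebraMap R R') := by
    ext i j
    simp [D, Matrix.one_apply, apply_ite (algebraMap R R')]
  have hDW : D * W = 1 := by rw [← hV]; exact V.mul_inv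
  have hWD : W * D = 1 := by rw [← hV]; exact V.inv_mul
  refine ⟨W.map (algebraMap R R'), ?_, ?_, ⟨-(W * C), ?_⟩⟩
  · rw [← hmap, ← Matrix.map_mul, hDW, Matrix.map_one _ (map_zero _) (map_one _)]
  · rw [← hmap, ← Matrix.map_mul, hWD, Matrix.map_one _ (map_zero _) (map_one _)]
  · have e : W - 1 = s ^ k • -(W * C) := by
      rw [show W - 1 = W * 1 - W * D by rw [mul_one, hWD]]
      simp only [D, mul_add, mul_one, Matrix.mul_smul, smul_neg]
      abel
    have e' := congrArg (fun M : Matrix n n R => M.map (algebraMap R R')) e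
    rw [Matrix.map_sub _ (map_sub _), Matrix.map_one _ (map_zero _) (map_one _)] at e'
    rw [e']
    ext i j
    simp only [Matrix.smul_apply, Matrix.map_apply, smul_eq_mul, map_mul, map_pow]

variable [IsLocalization.Away s R']

theorem exists_bound [Finite m] [Finite n] (X : Matrix m n R') :
    ∃ (b : ℕ) (C : Matrix m n R), algebraMap R R' s ^ b • X = C.map (algebraMap R R') := by
  obtain ⟨⟨_, b, rfl⟩, h⟩ := IsLocalization.exist_integer_multiples_of_finite (Submonoid.powers s)
    (fun p : m × n => X p.1 p.2)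
  choose C hC using h
  refine ⟨b, Matrix.of fun i j => C (i, j), ?_⟩
  ext i j
  rw [Matrix.map_apply, Matrix.of_apply, hC, Matrix.smul_apply]
  show _ = (s ^ b : R) • X i j
  rw [Algebra.smul_def (s ^ b) (X i j), map_pow, smul_eq_mul]

theorem exists_mul_left [Fintype m] [Finite l] (X : Matrix l m R') :
    ∃ b : ℕ, ∀ k (Y : Matrix m n R'), Small s (k + b) Y → Small s k (X * Y) := by
  obtain ⟨b, C, hC⟩ := exists_bound (s := s) X
  refine ⟨b, fun k Y ⟨D, hD⟩ => ⟨C * D, ?_⟩⟩
  rw [hD, Matrix.map_mul, ← hC, Matrix.mul_smul, Matrix.smul_mul, smul_smul, pow_add]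

theorem exists_mul_right [Fintype m] [Finite n] (X : Matrix m n R') :
    ∃ b : ℕ, ∀ k (Y : Matrix l m R'), Small s (k + b) Y → Small s k (Y * X) := by
  obtain ⟨b, C, hC⟩ := exists_bound (s := s) X
  refine ⟨b, fun k Y ⟨D, hD⟩ => ⟨D * C, ?_⟩⟩
  rw [hD, Matrix.map_mul, ← hC, Matrix.smul_mul, Matrix.mul_smul, smul_smul, pow_add]

end Groth.Agent.ApproxMod
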